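import Cfsg.Agent.Lib.SylowSquares.Gen
import Cfsg.Agent.Lib.Chev.RootPairs
import Cfsg.Agent.Lib.Chev.DefectGroups

/-!
Squares in Sylow 2-subgroups of Chevalley groups in characteristic two.
-/

set_option autoImplicit false
set_option linter.unusedSectionVars false

namespace CfsgLib.Chev

open Cfsg.Lie Matrix CfsgLib.SylowSquares

variable {D : ChevalleyDatum}

namespace Chev

variable (Φ : Chev D) {F : Type*} [Field F] [Finite F] [CharP F 2]

include Φ in
theorem sqInDerived : SqInDerived ↥(D.group F) := by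
  classical
  haveI := Fact.mk Nat.prime_two
  haveI : Finite ↥(D.group F) := Subgroup.instFiniteSubtypeMem _
  letI : Fintype ↥(D.group F) := Fintype.ofFinite _
  refine SqInDerived.of_sylow (Sylow.ofCard _ (Φ.card_U_sub (F := F) 2)) ?_
  rw [Sylow.coe_ofCard]
  refine sq_mem_subgroupOf (fun x hx => Φ.B_le_group (U_le_B hx)) ?_
  refine sq_mem_of_closure Φ.toAlg.posUnipotent_eq ?_
  rintro _ ⟨r, t, -, rfl⟩
  rw [Φ.xg_add_self]
  exact one_mem _

end Chev

end CfsgLib.Chev
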