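import Cfsg.Agent.Lib.SylowSquares.Forms
import Cfsg.Agent.Lib.PolarSteinberg.Symp
import Cfsg.Agent.Lib.PolarSteinberg.Unitary
import Cfsg.Agent.Lib.OmegaSimple
import Cfsg.Agent.Lib.StdQuadForms

/-!
Squares in Sylow 2-subgroups of the classical groups over fields of characteristic two.
-/

set_option autoImplicit false
set_option linter.unusedSectionVars false

namespace CfsgLib.SylowSquares

open Cfsg
open scoped Matrix commutatorElement

namespace Form

variable {F V : Type*} [Field F] [AddCommGroup V] [Module F V] (D : Form F V)

/-- The root map as a linear map. -/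
def rootLin (e a : V) (s : F) : V →ₗ[F] V where
  toFun := D.root e a s
  map_add' x y := by
    simp only [root, D.add_left, add_smul, mul_add]
    abel
  map_smul' c x := by
    simp only [root, D.smul_left, RingHom.id_apply, smul_add, smul_smul]
    congr 2
    ring

theorem rootLin_apply (e a : V) (s : F) (x : V) : D.rootLin e a s x = D.root e a s x := rfl

variable [CharP F 2] {e a : V} {s : F}

theorem rootLin_pow (he : D.Q e = 0) (ha : D.h a e = 0) : D.rootLin e a s ^ 4 = 1 := by
  refine LinearMap.ext fun x => ?_
  show D.root e a s (D.root e a s (D.root e a s (D.root e a s x))) = x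
  rw [D.root_mul he ha ha, D.root_mul he ha ha, vdup F, CharTwo.add_self_eq_zero, zero_add,
    D.root_mul he (D.zero_left e) (D.zero_left e), add_zero, CharTwo.add_self_eq_zero, D.zero_left,
    add_zero, D.root_zero]

theorem det_rootLin (he : D.Q e = 0) (ha : D.h a e = 0) : LinearMap.det (D.rootLin e a s) = 1 := by
  have h := congrArg LinearMap.det (D.rootLin_pow (s := s) he ha)
  rw [map_pow, map_one] at h
  have h0 : (LinearMap.det (D.rootLin e a s) + 1) ^ 4 = 0 := by
    have e4 : ∀ d : F, (d + 1) ^ 4 = d ^ 4 + 1 := fun d => by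
      ring_nf
      simp [CharTwo.two_eq_zero, show (4 : F) = 2 * 2 by norm_num, show (6 : F) = 2 * 3 by norm_num]
    rw [e4, h, CharTwo.add_self_eq_zero]
  exact CharTwo.add_eq_zero.mp (pow_eq_zero_iff (by norm_num) |>.mp h0)

/-- The root map as a linear equivalence. -/
def rootEquiv (he : D.Q e = 0) (ha : D.h a e = 0) : V ≃ₗ[F] V :=
  LinearEquiv.ofLinearMap (D.rootLin e a s) (D.rootLin e a s ^ 3)
    (show D.rootLin e a s * D.rootLin e a s ^ 3 = 1 by rw [← pow_succ']; exact D.rootLin_pow he ha)
    (show D.rootLin e a s ^ 3 * D.rootLin e a s = 1 by rw [← pow_succ]; exact D.rootLin_pow he ha)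

theorem rootEquiv_apply (he : D.Q e = 0) (ha : D.h a e = 0) (x : V) :
    D.rootEquiv (s := s) he ha x = D.root e a s x := rfl

end Form

variable {F : Type*} [Field F] [CharP F 2]

theorem symp [Finite F] (m : ℕ) : SqInDerived (Matrix.symplecticGroup (Fin m) F) := by
  let D : Form F (Fin m ⊕ Fin m → F) :=
    { σ := RingHom.id F
      σσ := fun _ => rfl
      h := PolarSt.altB m
      add_left := fun u v w => by
        simp only [PolarSt.altB, Pi.add_apply, ← Finset.sum_add_distrib]
        exact Finset.sum_congr rfl fun i _ => by ring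
      smul_left := fun c u v => by
        simp only [PolarSt.altB, Pi.smul_apply, smul_eq_mul, Finset.mul_sum]
        exact Finset.sum_congr rfl fun i _ => by ring
      symm := fun u v => by
        simp only [PolarSt.altB, RingHom.id_apply]
        refine Finset.sum_congr rfl fun i _ => ?_
        rw [CharTwo.sub_eq_add, CharTwo.sub_eq_add]
        ring
      T := 0
      Tσ := fun _ => rfl
      Tfix := fun _ _ => by simp
      Q := fun _ => 0
      Q_add := fun _ _ => by simp
      Q_smul := fun _ _ => by simp
      diag := fun a s _ => by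
        simp only [PolarSt.altB, RingHom.id_apply, CharTwo.add_self_eq_zero]
        exact Finset.sum_eq_zero fun i _ => by ring
      valid := fun _ => ⟨0, rfl⟩ }
  have hac : ∀ (A : Matrix.symplecticGroup (Fin m) F) x, (PolarSt.sympRho m F A).1 x = A.1 *ᵥ x :=
    fun A x => rfl
  let Y : Sys F (Fin m ⊕ Fin m → F) (Matrix.symplecticGroup (Fin m) F) :=
    { D := D
      act := (Matrix.toLinAlgEquiv' (R := F) (n := Fin m ⊕ Fin m)).toRingEquiv.toMonoidHom.comp
        (Matrix.symplecticGroup (Fin m) F).subtype
      act_inj := fun A B h => Subtype.ext ((Matrix.toLinAlgEquiv' (R := F) (n := Fin m ⊕ Fin m)).injective h)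
      pres_h := fun A x y => (PolarSt.sympRho m F A).2.1 x y
      pres_Q := fun _ _ => rfl
      exists_root := fun e a s he ha hs => by
        obtain ⟨A, hA⟩ := PolarSt.sympRho_surjective m
          (⟨D.rootEquiv (s := s) he ha, fun x y => D.root_h he ha hs x y, fun _ => rfl⟩ :
            (PolarSt.sympPForm m F).Iso)
        refine ⟨A, fun x => ?_⟩
        show A.1 *ᵥ x = _
        rw [← hac, hA]
        rfl }
  haveI : Finite (Fin m ⊕ Fin m → F) := inferInstance
  refine Y.sqInDerived fun e he => ?_
  by_contra h
  push Not at h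
  exact he ((PolarSt.sympPForm m F).nondeg e h)

theorem psp [Finite F] (m : ℕ) : SqInDerived (PSp m F) := by
  haveI : Finite (Matrix.symplecticGroup (Fin m) F) := Finite.of_injective _ Subtype.val_injective
  exact (symp m).of_surjective (QuotientGroup.mk'_surjective _)

theorem su [Fintype F] (n q : ℕ) (hF : Fintype.card F = q ^ 2) : SqInDerived (SU n F q) := by
  obtain ⟨σ, B, hσid, hσ2, -, hS, hN, hB⟩ := CfsgLib.IsotropicCount.herm_sesq hF n
  let D : Form F (Fin n → F) :=
    { σ := σ
      σσ := hσ2
      h := fun u v => B v u
      add_left := fun u v w => map_add (B w) u v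
      smul_left := fun c u v => by rw [map_smul, smul_eq_mul]
      symm := fun u v => (hS.eq v u).symm
      T := (RingHom.id F).toAddMonoidHom + σ.toAddMonoidHom
      Tσ := fun x => by
        show σ x + σ (σ x) = x + σ x
        rw [hσ2, add_comm]
      Tfix := fun c s => by
        show c * σ c * s + σ (c * σ c * s) = c * σ c * (s + σ s)
        rw [map_mul, map_mul, hσ2]; ring
      Q := fun v => B v v
      Q_add := fun u v => by
        simp only [map_add, LinearMap.add_apply]
        show _ = _ + _ + (B v u + σ (B v u))
        rw [hS.eq]; ring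
      Q_smul := fun c v => by
        simp only [map_smulₛₗ, LinearMap.smul_apply, RingHom.id_apply, smul_eq_mul]
        ring
      diag := fun a s h => h.symm
      valid := fun a => by
        obtain ⟨k, hk⟩ := CfsgLib.WittExtension.exists_trace hσid hσ2 (c := B a a) (hS.eq a a)
        exact ⟨k, show k + σ k = B a a by rw [add_comm, hk]⟩ }
  let Y : Sys F (Fin n → F) (SU n F q) :=
    { D := D
      act := (Matrix.toLinAlgEquiv' (R := F) (n := Fin n)).toRingEquiv.toMonoidHom.comp
        ((slToMat n F).comp (SU n F q).subtype)
      act_inj := fun A A' h => Subtype.ext (Subtype.ext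
        ((Matrix.toLinAlgEquiv' (R := F) (n := Fin n)).injective h))
      pres_h := fun A x y => by
        show B ((slToMat n F A.1) *ᵥ y) ((slToMat n F A.1) *ᵥ x) = B y x
        rw [hB, hB]; exact A.2 x y
      pres_Q := fun A x => by
        show B ((slToMat n F A.1) *ᵥ x) ((slToMat n F A.1) *ᵥ x) = B x x
        rw [hB, hB]; exact A.2 x x
      exists_root := fun e a s he ha hs => by
        have hdet : (LinearMap.toMatrix' (D.rootLin e a s)).det = 1 := by
          rw [LinearMap.det_toMatrix', D.det_rootLin he ha]
        have hmul : ∀ x, LinearMap.toMatrix' (D.rootLin e a s) *ᵥ x = D.root e a s x := fun x => by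
          rw [LinearMap.toMatrix'_mulVec, Form.rootLin_apply]
        refine ⟨⟨⟨LinearMap.toMatrix' (D.rootLin e a s), hdet⟩, fun u v => ?_⟩, fun x => hmul x⟩
        show hermForm n F q (LinearMap.toMatrix' (D.rootLin e a s) *ᵥ u)
          (LinearMap.toMatrix' (D.rootLin e a s) *ᵥ v) = _
        rw [hmul, hmul, ← hB, ← hB]
        exact D.root_h he ha hs u v }
  refine Y.sqInDerived fun e he => ?_
  by_contra h
  push Not at h
  exact he (hN.1 e fun y => by rw [← hS.eq, show B y e = 0 from h y, map_zero])

theorem psu [Fintype F] (n q : ℕ) (hF : Fintype.card F = q ^ 2) : SqInDerived (PSU n F q) := by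
  haveI : Finite (SU n F q) := Subtype.finite
  exact (su n q hF).of_surjective (QuotientGroup.mk'_surjective _)

open QuadraticMap CfsgLib.WittExtension CfsgLib.Eichler in
theorem pomega [Fintype F] {ι : Type} [Fintype ι] [DecidableEq ι] (f : (ι → F) → F)
    (Q : QuadraticForm F (ι → F)) (hf : ∀ v, f v = Q v) (hQ : (polarBilin Q).Nondegenerate)
    (hn : 5 ≤ Fintype.card ι) : SqInDerived (POmega F f) := by
  obtain rfl : f = ⇑Q := funext hf
  have hn' : 5 ≤ Module.finrank F (ι → F) := by rw [Module.finrank_fintype_fun_eq_card]; exact hn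
  let D : Form F (ι → F) :=
    { σ := RingHom.id F
      σσ := fun _ => rfl
      h := fun u v => polar Q u v
      add_left := fun u v w => polar_add_left Q u v w
      smul_left := fun c u v => by rw [polar_smul_left, smul_eq_mul]
      symm := fun u v => polar_comm Q v u
      T := AddMonoidHom.id F
      Tσ := fun _ => rfl
      Tfix := fun _ _ => rfl
      Q := fun v => Q v
      Q_add := fun u v => by simp only [polar, AddMonoidHom.id_apply]; ring
      Q_smul := fun c v => by rw [QuadraticMap.map_smul, smul_eq_mul, RingHom.id_apply]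
      diag := fun a s _ => by
        rw [CfsgLib.ReflectionGen.pol_self, CharTwo.two_eq_zero, zero_mul, RingHom.id_apply,
          CharTwo.add_self_eq_zero]
      valid := fun a => ⟨Q a, rfl⟩ }
  let Y : Sys F (ι → F) ↥(commutator (quadIso Q)) :=
    { D := D
      act := LinearEquiv.automorphismGroup.toLinearMapMonoidHom.comp
        ((quadIso Q).subtype.comp (commutator (quadIso Q)).subtype)
      act_inj := fun A A' h => Subtype.ext (Subtype.ext (LinearEquiv.toLinearMap_injective h))
      pres_h := fun A x y => by
        show polar Q (A.1.1 x) (A.1.1 y) = polar Q x y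
        simp only [polar, ← map_add, A.1.2 _]
      pres_Q := fun A x => A.1.2 x
      exists_root := fun e a s he ha hs => by
        by_cases he0 : e = 0
        · refine ⟨1, fun x => ?_⟩
          show x = _
          subst he0
          simp [Form.root, D, QuadraticMap.polar_zero_right]
        have hea : polar Q e a = 0 := by rw [polar_comm]; exact ha
        obtain ⟨g, hg⟩ := exists_eich Q he hea
        have hmem : g ∈ commutator (quadIso Q) := by
          rw [OmegaSimple.commutator_eq Q hQ hn']
          exact OmegaSimple.eich_mem Q hQ hn' he0 he hea hg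
        refine ⟨⟨g, hmem⟩, fun x => ?_⟩
        show g.1 x = _
        rw [hg x, polar_comm Q e x, polar_comm Q a x, show Q a = s from hs.symm, CharTwo.sub_eq_add,
          CharTwo.neg_eq, ← add_assoc]
        rfl }
  have h1 : SqInDerived ↥(commutator (quadIso Q)) := Y.sqInDerived fun e he => by
    by_contra h
    push Not at h
    exact he (hQ.1 e h)
  let e := CfsgLib.SpinorMatrix.isoEquiv Q
  have hmap : (Cfsg.Omega F ⇑Q).map e.toMonoidHom = commutator (quadIso Q) := by
    rw [show Cfsg.Omega F ⇑Q = commutator _ from rfl, _root_.commutator_def,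
      _root_.commutator_def, Subgroup.map_commutator, Subgroup.map_top_of_surjective _ e.surjective]
  let e' : ↥(Cfsg.Omega F ⇑Q) ≃* ↥(commutator (quadIso Q)) :=
    (e.subgroupMap _).trans (MulEquiv.subgroupCongr hmap)
  haveI : Finite ↥(commutator (quadIso Q)) := Finite.of_injective (fun g => ((g.1.1 : (ι → F) ≃ₗ[F] (ι → F)) : (ι → F) → (ι → F)))
    (fun g g' h => Subtype.ext (Subtype.ext (LinearEquiv.ext (congrFun h))))
  haveI : Finite ↥(Cfsg.Omega F ⇑Q) := Finite.of_equiv _ e'.symm.toEquiv
  exact (h1.equiv e'.symm).of_surjective (QuotientGroup.mk'_surjective _)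

end CfsgLib.SylowSquares
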