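import Mathlib

/-!
Squares in Sylow 2-subgroups of classical groups in characteristic 2 lie in the derived group of
the Sylow subgroup: induction along root subgroups of singular vectors.
-/

set_option autoImplicit false
set_option linter.unusedSectionVars false
set_option linter.style.haveILetI false

namespace CfsgLib.SylowSquares

open scoped commutatorElement

/-- Vectors in characteristic two are their own negatives. -/
theorem vdup (F : Type*) {V : Type*} [Field F] [CharP F 2] [AddCommGroup V] [Module F V] (v : V) :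
    v + v = 0 := by
  rw [← two_smul F, CharTwo.two_eq_zero, zero_smul]

/-- A conjugate-symmetric form with a compatible quadratic function, in characteristic two. -/
structure Form (F V : Type*) [Field F] [AddCommGroup V] [Module F V] where
  σ : F →+* F
  σσ : ∀ x, σ (σ x) = x
  h : V → V → F
  add_left : ∀ u v w, h (u + v) w = h u w + h v w
  smul_left : ∀ (c : F) u v, h (c • u) v = c * h u v
  symm : ∀ u v, h v u = σ (h u v)
  T : F →+ F
  Tσ : ∀ x, T (σ x) = T x
  Tfix : ∀ c s, T (c * σ c * s) = c * σ c * T s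
  Q : V → F
  Q_add : ∀ u v, Q (u + v) = Q u + Q v + T (h u v)
  Q_smul : ∀ (c : F) v, Q (c • v) = c * σ c * Q v
  diag : ∀ a s, T s = Q a → h a a = s + σ s
  valid : ∀ a, ∃ s, T s = Q a

namespace Form

variable {F V : Type*} [Field F] [AddCommGroup V] [Module F V] (D : Form F V)

theorem zero_left (v : V) : D.h 0 v = 0 := by
  simpa using D.smul_left 0 0 v

theorem zero_right (v : V) : D.h v 0 = 0 := by
  rw [D.symm, D.zero_left, map_zero]

theorem add_right (u v w : V) : D.h u (v + w) = D.h u v + D.h u w := by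
  rw [D.symm (v + w) u, D.add_left, map_add, ← D.symm, ← D.symm]

theorem smul_right (c : F) (u v : V) : D.h u (c • v) = D.σ c * D.h u v := by
  rw [D.symm (c • v) u, D.smul_left, map_mul, ← D.symm]

theorem perp_symm {u v : V} (hz : D.h u v = 0) : D.h v u = 0 := by
  rw [D.symm u v, hz, map_zero]

theorem Q_zero : D.Q 0 = 0 := by
  simpa using D.Q_smul 0 0

/-- The root map of a singular vector. -/
def root (e a : V) (s : F) (x : V) : V := x + D.h x e • a + (D.h x a + s * D.h x e) • e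

theorem root_zero (e x : V) : D.root e 0 0 x = x := by simp [root, D.zero_right]

variable [CharP F 2]

theorem sing_self {e : V} (he : D.Q e = 0) : D.h e e = 0 := by
  simpa using D.diag e 0 (by rw [map_zero, he])

variable {e a b : V} {s t : F}

theorem root_h_e (he : D.Q e = 0) (ha : D.h a e = 0) (x : V) :
    D.h (D.root e a s x) e = D.h x e := by
  simp [root, D.add_left, D.smul_left, ha, D.sing_self he]

theorem root_mul (he : D.Q e = 0) (ha : D.h a e = 0) (hb : D.h b e = 0) (x : V) :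
    D.root e a s (D.root e b t x) = D.root e (a + b) (s + t + D.h b a) x := by
  have h1 : D.h (D.root e b t x) a = D.h x a + D.h x e * D.h b a := by
    simp [root, D.add_left, D.smul_left, D.perp_symm ha]
  conv_lhs => rw [root, D.root_h_e he hb, h1]
  simp only [root, D.add_right, smul_add, add_smul, smul_smul, mul_comm _ (D.h x e)]
  module

theorem valid_add (hs : D.T s = D.Q a) (ht : D.T t = D.Q b) :
    D.T (s + t + D.h b a) = D.Q (a + b) := by
  rw [D.Q_add, map_add, map_add, hs, ht, D.symm a b, D.Tσ]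

theorem root_Q (he : D.Q e = 0) (ha : D.h a e = 0) (hs : D.T s = D.Q a) (x : V) :
    D.Q (D.root e a s x) = D.Q x := by
  set c := D.h x e
  set m := D.h x a
  have e1 : D.h x (c • a) = D.σ c * m := D.smul_right c x a
  have e2 : D.h (x + c • a) ((m + s * c) • e) = D.σ (m + s * c) * c := by
    rw [D.smul_right, D.add_left, D.smul_left, ha, mul_zero, add_zero]
  show D.Q (x + c • a + (m + s * c) • e) = _
  rw [D.Q_add, D.Q_add, D.Q_smul, D.Q_smul, he, mul_zero, add_zero, ← hs, e1, e2,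
    ← D.Tσ (D.σ c * m), map_mul, D.σσ, map_add D.σ, map_mul D.σ, add_mul, map_add D.T,
    ← D.Tσ (D.σ s * D.σ c * c), map_mul D.σ, map_mul D.σ, D.σσ, D.σσ,
    show s * c * D.σ c = c * D.σ c * s by ring, D.Tfix, mul_comm (D.σ m) c]
  ring_nf
  simp [CharTwo.two_eq_zero]

theorem root_h (he : D.Q e = 0) (ha : D.h a e = 0) (hs : D.T s = D.Q a) (x y : V) :
    D.h (D.root e a s x) (D.root e a s y) = D.h x y := by
  simp only [root, D.add_left, D.add_right, D.smul_left, D.smul_right, ha, D.perp_symm ha,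
    D.sing_self he, D.diag a s hs, map_add, map_mul]
  rw [D.symm y e, D.symm y a]
  ring_nf
  simp [CharTwo.two_eq_zero]

end Form

/-- A group of isometries containing all root maps. -/
structure Sys (F V G : Type*) [Field F] [AddCommGroup V] [Module F V] [Group G] where
  D : Form F V
  act : G →* (V →ₗ[F] V)
  act_inj : Function.Injective act
  pres_h : ∀ g x y, D.h (act g x) (act g y) = D.h x y
  pres_Q : ∀ g x, D.Q (act g x) = D.Q x
  exists_root : ∀ e a s, D.Q e = 0 → D.h a e = 0 → D.T s = D.Q a →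
    ∃ g, ∀ x, act g x = D.root e a s x

namespace Sys

variable {F V G : Type*} [Field F] [AddCommGroup V] [Module F V] [Group G] (Y : Sys F V G)

theorem ext {g k : G} (h : ∀ x, Y.act g x = Y.act k x) : g = k := Y.act_inj (LinearMap.ext h)

theorem act_mul (g k : G) (x : V) : Y.act (g * k) x = Y.act g (Y.act k x) := by
  rw [map_mul]; rfl

theorem act_one (x : V) : Y.act 1 x = x := by rw [map_one]; rfl

theorem act_inv (g : G) (x : V) : Y.act g⁻¹ (Y.act g x) = x := by
  rw [← Y.act_mul, inv_mul_cancel, Y.act_one]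

theorem act_inv' (g : G) (x : V) : Y.act g (Y.act g⁻¹ x) = x := by
  rw [← Y.act_mul, mul_inv_cancel, Y.act_one]

/-- The pointwise stabiliser of a set of vectors. -/
def Fix (S : Set V) : Subgroup G where
  carrier := {g | ∀ v ∈ S, Y.act g v = v}
  one_mem' := fun v _ => Y.act_one v
  mul_mem' := fun {g k} hg hk v hv => by rw [Y.act_mul, hk v hv, hg v hv]
  inv_mem' := fun {g} hg v hv => by
    conv_lhs => rw [← hg v hv]
    exact Y.act_inv g v

theorem mem_Fix {S : Set V} {g : G} : g ∈ Y.Fix S ↔ ∀ v ∈ S, Y.act g v = v := Iff.rfl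

/-- The orthogonal space of a set of vectors. -/
def W (S : Set V) : Submodule F V where
  carrier := {w | ∀ v ∈ S, Y.D.h w v = 0}
  zero_mem' := fun v _ => Y.D.zero_left v
  add_mem' := fun ha hb v hv => by rw [Y.D.add_left, ha v hv, hb v hv, add_zero]
  smul_mem' := fun c w hw v hv => by rw [Y.D.smul_left, hw v hv, mul_zero]

theorem mem_W {S : Set V} {w : V} : w ∈ Y.W S ↔ ∀ v ∈ S, Y.D.h w v = 0 := Iff.rfl

/-- The form is non-degenerate on the orthogonal space. -/
def Nd (S : Set V) : Prop := ∀ e ∈ Y.W S, e ≠ 0 → ∃ w ∈ Y.W S, Y.D.h e w ≠ 0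

theorem act_mem_W {S : Set V} {g : G} (hg : g ∈ Y.Fix S) {w : V} (hw : w ∈ Y.W S) :
    Y.act g w ∈ Y.W S := fun v hv => by
  conv_lhs => rw [← hg v hv]
  rw [Y.pres_h, hw v hv]

theorem sub_mem_W {S : Set V} {g : G} (hg : g ∈ Y.Fix S) (x : V) :
    Y.act g x - x ∈ Y.W S := fun v hv => by
  have h1 : Y.D.h (Y.act g x) v = Y.D.h x v := by
    conv_lhs => rw [← hg v hv]
    rw [Y.pres_h]
  have h2 := Y.D.add_left (Y.act g x - x) x v
  rw [sub_add_cancel, h1] at h2
  exact right_eq_add.mp h2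

variable [CharP F 2]

theorem exists_partner {S : Set V} (hnd : Y.Nd S) {e : V} (he : e ∈ Y.W S) (he0 : e ≠ 0)
    (hQ : Y.D.Q e = 0) : ∃ f ∈ Y.W S, Y.D.Q f = 0 ∧ Y.D.h e f = 1 := by
  obtain ⟨w, hw, hew⟩ := hnd e he he0
  set d := Y.D.σ (Y.D.h e w)⁻¹
  have hd : Y.D.h e (d • w) = 1 := by
    rw [Y.D.smul_right, Y.D.σσ, inv_mul_cancel₀ hew]
  obtain ⟨s, hs⟩ := Y.D.valid (d • w)
  refine ⟨d • w + s • e, add_mem (Submodule.smul_mem _ d hw) (Submodule.smul_mem _ s he), ?_, ?_⟩
  · rw [Y.D.Q_add, Y.D.Q_smul s e, hQ, mul_zero, add_zero, Y.D.smul_right s, Y.D.symm e (d • w),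
      hd, map_one, mul_one, Y.D.Tσ, hs, CharTwo.add_self_eq_zero]
  · rw [Y.D.add_right, hd, Y.D.smul_right, Y.D.sing_self hQ, mul_zero, add_zero]

theorem proj_mem {S : Set V} {e f w : V} (he : e ∈ Y.W S) (hf : f ∈ Y.W S) (hQe : Y.D.Q e = 0)
    (hQf : Y.D.Q f = 0) (hef : Y.D.h e f = 1) (hw : w ∈ Y.W S) :
    w + Y.D.h w f • e + Y.D.h w e • f ∈ Y.W (S ∪ {e, f}) := by
  have hfe : Y.D.h f e = 1 := by rw [Y.D.symm e f, hef, map_one]
  rintro v (hv | rfl | rfl)
  · exact add_mem (add_mem hw (Submodule.smul_mem _ _ he)) (Submodule.smul_mem _ _ hf) v hv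
  · simp [Y.D.add_left, Y.D.smul_left, Y.D.sing_self hQe, hfe, CharTwo.add_self_eq_zero]
  · simp [Y.D.add_left, Y.D.smul_left, Y.D.sing_self hQf, hef, CharTwo.add_self_eq_zero]

theorem mem_W_union {S : Set V} {e f w : V} :
    w ∈ Y.W (S ∪ {e, f}) ↔ w ∈ Y.W S ∧ Y.D.h w e = 0 ∧ Y.D.h w f = 0 := by
  constructor
  · exact fun h => ⟨fun v hv => h v (Or.inl hv), h e (Or.inr (Or.inl rfl)), h f (Or.inr (Or.inr rfl))⟩
  · rintro ⟨h1, h2, h3⟩ v (hv | rfl | rfl)
    exacts [h1 v hv, h2, h3]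

theorem nd_union {S : Set V} (hnd : Y.Nd S) {e f : V} (he : e ∈ Y.W S) (hf : f ∈ Y.W S)
    (hQe : Y.D.Q e = 0) (hQf : Y.D.Q f = 0) (hef : Y.D.h e f = 1) : Y.Nd (S ∪ {e, f}) := by
  intro u hu hu0
  obtain ⟨h1, h2, h3⟩ := Y.mem_W_union.mp hu
  obtain ⟨w, hw, huw⟩ := hnd u h1 hu0
  refine ⟨_, Y.proj_mem he hf hQe hQf hef hw, ?_⟩
  simpa [Y.D.add_right, Y.D.smul_right, h2, h3] using huw

/-- Elements of 2-power order square to one when there is no hyperbolic pair with an orthogonal vector. -/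
theorem sq_eq_one_of_no_triple {S : Set V} (hnd : Y.Nd S)
    (hno : ¬ ∃ e f a, e ∈ Y.W S ∧ f ∈ Y.W S ∧ a ∈ Y.W (S ∪ {e, f}) ∧ a ≠ 0 ∧
      Y.D.Q e = 0 ∧ Y.D.Q f = 0 ∧ Y.D.h e f = 1)
    {g : G} (hg : g ∈ Y.Fix S) : ∀ k, g ^ 2 ^ k = 1 → g * g = 1 := by
  -- elements of order dividing four square to one
  have four : ∀ j ∈ Y.Fix S, j * j * (j * j) = 1 → j * j = 1 := by
    intro j hj h4
    obtain ⟨δ, hδ⟩ : ∃ δ : V → V, ∀ x, δ x = Y.act j x + x := ⟨_, fun _ => rfl⟩
    have hadd : ∀ x, Y.act j x = x + δ x := fun x => by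
      rw [hδ, ← add_assoc, add_comm x (Y.act j x), add_assoc, vdup F, add_zero]
    have hsq : ∀ x, Y.act (j * j) x = x + δ (δ x) := fun x => by
      rw [Y.act_mul, hadd x, map_add, hadd x, hδ (δ x)]
      abel
    have hδadd : ∀ u v, δ (u + v) = δ u + δ v := fun u v => by
      simp only [hδ, map_add]
      abel
    have hW : ∀ x, δ x ∈ Y.W S := fun x => by
      have := Y.sub_mem_W hj x
      rwa [hδ, ← sub_add_cancel (Y.act j x + x) (Y.act j x - x),
        show Y.act j x + x - (Y.act j x - x) = x + x by abel, vdup F, zero_add]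
    -- three steps to zero force two
    have step : ∀ x, δ (δ (δ x)) = 0 → δ (δ x) = 0 := by
      intro x h3
      by_contra hd0
      set y := δ x with hy
      set d := δ y with hd
      have hfix : Y.act j d = d := by rw [hadd d, h3, add_zero]
      have hdW : d ∈ Y.W S := hW y
      have hyd : Y.D.h y d = 0 := by
        have h1 : Y.D.h (Y.act j x) d = Y.D.h x d := by
          conv_lhs => rw [← hfix]
          rw [Y.pres_h]
        rw [hy, hδ, Y.D.add_left, h1, CharTwo.add_self_eq_zero]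
      have hQd : Y.D.Q d = 0 := by
        have h1 := Y.pres_Q j y
        rw [hadd y, ← hd, Y.D.Q_add, hyd, map_zero, add_zero] at h1
        exact add_eq_left.mp h1
      obtain ⟨f, hf, hQf, hdf⟩ := Y.exists_partner hnd hdW hd0 hQd
      have ha := Y.proj_mem hdW hf hQd hQf hdf (hW x)
      rw [← hy, hyd, zero_smul, add_zero] at ha
      refine hno ⟨d, f, _, hdW, hf, ha, fun h0 => hd0 ?_, hQd, hQf, hdf⟩
      have e1 : y = Y.D.h y f • d := by
        calc y = y + (Y.D.h y f • d + Y.D.h y f • d) := by rw [vdup F, add_zero]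
          _ = _ := by rw [← add_assoc, h0, zero_add]
      rw [hd, hδ, e1, map_smul, hfix, vdup F]
    refine Y.ext fun x => ?_
    have h4x : δ (δ (δ (δ x))) = 0 := by
      have := hsq (Y.act (j * j) x)
      rw [← Y.act_mul, h4, Y.act_one, hsq x] at this
      have hl : δ (δ (x + δ (δ x))) = δ (δ x) + δ (δ (δ (δ x))) := by
        rw [hδadd x, hδadd]
      rw [hl, add_assoc, ← add_assoc (δ (δ x)) (δ (δ x)), vdup F, zero_add] at this
      exact left_eq_add.mp this
    rw [hsq, step x (step (δ x) h4x), add_zero, Y.act_one]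
  intro k
  induction k with
  | zero => intro h; rw [pow_zero, pow_one] at h; rw [h, one_mul]
  | succ k ih =>
    intro h
    rcases k with _ | k
    · simpa [pow_two] using h
    refine ih ?_
    have h1 := four (g ^ 2 ^ k) (pow_mem hg _) (by
      rw [← h]; simp only [← pow_add]; congr 1; ring)
    rw [← h1, ← pow_add]; congr 1; ring

/-- The singular vectors of the orthogonal space. -/
def Sing (S : Set V) : Set V := {x | x ∈ Y.W S ∧ Y.D.Q x = 0}

theorem even_card_sing [Finite V] {S : Set V} {e a : V} (he : e ∈ Y.W S) (ha : a ∈ Y.W S)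
    (he0 : e ≠ 0) (ha0 : ∀ c : F, a ≠ c • e) (hQ : Y.D.Q e = 0) (hae : Y.D.h a e = 0) :
    2 ∣ Nat.card (Y.Sing S) := by
  classical
  obtain ⟨s, hs⟩ := Y.D.valid a
  let r := Y.D.root e a s
  -- the map: translate on the perpendicular part, apply the root map elsewhere
  let φ : V → V := fun x => if Y.D.h x e = 0 then x + e else r x
  have hmem : ∀ x ∈ Y.Sing S, φ x ∈ Y.Sing S := by
    rintro x ⟨hx, hQx⟩
    simp only [φ]
    split_ifs with h
    · exact ⟨add_mem hx he, by rw [Y.D.Q_add, hQx, hQ, h, map_zero]; simp⟩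
    · exact ⟨add_mem (add_mem hx (Submodule.smul_mem _ _ ha)) (Submodule.smul_mem _ _ he),
        by rw [Y.D.root_Q hQ hae hs, hQx]⟩
  have hperp : ∀ x, Y.D.h (φ x) e = Y.D.h x e := by
    intro x
    simp only [φ]
    split_ifs with h
    · rw [Y.D.add_left, Y.D.sing_self hQ, add_zero]
    · exact Y.D.root_h_e hQ hae x
  have hrr : ∀ x, r (r x) = Y.D.root e 0 (Y.D.h a a) x := fun x => by
    show Y.D.root e a s (Y.D.root e a s x) = _
    rw [Y.D.root_mul hQ hae hae, vdup F, CharTwo.add_self_eq_zero, zero_add]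
  have h4 : ∀ x, r (r (r (r x))) = x := fun x => by
    rw [hrr, hrr, Y.D.root_mul hQ (Y.D.zero_left e) (Y.D.zero_left e), add_zero,
      CharTwo.add_self_eq_zero, Y.D.zero_left, add_zero, Y.D.root_zero]
  have hφ4 : ∀ x, φ (φ (φ (φ x))) = x := fun x => by
    by_cases h : Y.D.h x e = 0
    · simp only [φ]
      simp [h, Y.D.add_left, Y.D.sing_self hQ, add_assoc, vdup F]
    · have key : ∀ y, Y.D.h y e = Y.D.h x e → φ y = r y := fun y hy => by
        simp only [φ]; rw [if_neg (hy ▸ h)]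
      have he1 : ∀ y, Y.D.h (r y) e = Y.D.h y e := Y.D.root_h_e hQ hae
      rw [key x rfl, key (r x) (he1 x), key (r (r x)) ((he1 _).trans (he1 x)),
        key (r (r (r x))) ((he1 _).trans ((he1 _).trans (he1 x))), h4]
  have hfix : ∀ x, φ x ≠ x := fun x hx => by
    simp only [φ] at hx
    split_ifs at hx with h
    · exact he0 (add_eq_left.mp hx)
    · simp only [r, Form.root, add_assoc] at hx
      have := add_eq_left.mp hx
      refine ha0 (-((Y.D.h x e)⁻¹ * (Y.D.h x a + s * Y.D.h x e))) ?_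
      rw [← smul_right_injective V h |>.eq_iff, smul_smul, mul_neg, ← mul_assoc,
        mul_inv_cancel₀ h, one_mul, neg_smul, eq_neg_iff_add_eq_zero]
      exact this
  let π : Equiv.Perm (Y.Sing S) :=
    { toFun := fun x => ⟨φ x, hmem _ x.2⟩
      invFun := fun x => ⟨φ (φ (φ x)), hmem _ (hmem _ (hmem _ x.2))⟩
      left_inv := fun x => Subtype.ext (hφ4 x)
      right_inv := fun x => Subtype.ext (hφ4 x) }
  have hπ : π ^ 4 = 1 := Equiv.ext fun x => Subtype.ext (hφ4 x)
  have hp : IsPGroup 2 (Subgroup.zpowers π) := by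
    have hd : orderOf π ∣ 2 ^ 2 := orderOf_dvd_of_pow_eq_one (by simpa using hπ)
    obtain ⟨k, -, hk⟩ := (Nat.dvd_prime_pow Nat.prime_two).mp hd
    exact IsPGroup.of_card (n := k) (by rw [Nat.card_zpowers, hk])
  by_contra hodd
  haveI := Fact.mk Nat.prime_two
  obtain ⟨x, hx⟩ := hp.nonempty_fixed_point_of_prime_not_dvd_card (Y.Sing S) hodd
  exact hfix x.1 (congrArg Subtype.val (hx ⟨π, Subgroup.mem_zpowers π⟩))

/-- The root subgroup of a singular vector. -/
def R {S : Set V} {e : V} (hQ : Y.D.Q e = 0) : Subgroup G where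
  carrier := {g | ∃ a s, a ∈ Y.W S ∧ Y.D.h a e = 0 ∧ Y.D.T s = Y.D.Q a ∧
    ∀ x, Y.act g x = Y.D.root e a s x}
  one_mem' := ⟨0, 0, zero_mem _, Y.D.zero_left e, by rw [map_zero, Y.D.Q_zero],
    fun x => by rw [Y.act_one, Y.D.root_zero]⟩
  mul_mem' := by
    rintro g k ⟨a, s, ha, hae, hs, hg⟩ ⟨b, t, hb, hbe, ht, hk⟩
    refine ⟨a + b, s + t + Y.D.h b a, add_mem ha hb, by rw [Y.D.add_left, hae, hbe, add_zero],
      Y.D.valid_add hs ht, fun x => ?_⟩
    rw [Y.act_mul, hk, hg, Y.D.root_mul hQ hae hbe]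
  inv_mem' := by
    rintro g ⟨a, s, ha, hae, hs, hg⟩
    have ht : Y.D.T (s + Y.D.h a a) = Y.D.Q a := by
      rw [map_add, hs, Y.D.diag a s hs, map_add, Y.D.Tσ, CharTwo.add_self_eq_zero, add_zero]
    obtain ⟨k, hk⟩ := Y.exists_root e a _ hQ hae ht
    have : g * k = 1 := Y.ext fun x => by
      rw [Y.act_mul, hk, hg, Y.D.root_mul hQ hae hae, Y.act_one, vdup F]
      convert Y.D.root_zero e x using 2
      ring_nf
      simp [CharTwo.two_eq_zero]
    rw [inv_eq_of_mul_eq_one_right this]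
    exact ⟨a, _, ha, hae, ht, hk⟩

/-- Sylow 2-subgroups of pointwise stabilisers, phrased by maximality. -/
def Max2 (S : Set V) (P : Subgroup G) : Prop :=
  P ≤ Y.Fix S ∧ IsPGroup 2 P ∧ ∀ Q ≤ Y.Fix S, IsPGroup 2 Q → P ≤ Q → Q = P

theorem sq_mem [Finite V] : ∀ (n : ℕ) (S : Set V), Module.finrank F (Y.W S) ≤ n → Y.Nd S →
    ∀ P : Subgroup G, Y.Max2 S P → ∀ x ∈ P, x * x ∈ ⁅P, P⁆ := by
  intro n
  induction n using Nat.strong_induction_on with
  | _ n ih =>
  intro S hn hnd P hP x hx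
  obtain ⟨hPS, hP2, hmax⟩ := hP
  by_cases hT : ∃ e f a, e ∈ Y.W S ∧ f ∈ Y.W S ∧ a ∈ Y.W (S ∪ {e, f}) ∧ a ≠ 0 ∧
      Y.D.Q e = 0 ∧ Y.D.Q f = 0 ∧ Y.D.h e f = 1
  swap
  · obtain ⟨k, hk⟩ := hP2 ⟨x, hx⟩
    have hk' : x ^ 2 ^ k = 1 := congrArg Subtype.val hk
    rw [Y.sq_eq_one_of_no_triple hnd hT (hPS hx) k hk']
    exact one_mem _
  -- a singular vector fixed by `P`
  obtain ⟨e₀, f₀, a₀, he₀, -, ha₀, ha₀0, hQe₀, -, hef₀⟩ := hT
  obtain ⟨ha₀W, ha₀e, ha₀f⟩ := Y.mem_W_union.mp ha₀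
  have he₀0 : e₀ ≠ 0 := fun h => by rw [h, Y.D.zero_left] at hef₀; exact zero_ne_one hef₀
  have heven := Y.even_card_sing he₀ ha₀W he₀0 (fun c hc => ha₀0 (by
    have := Y.D.smul_left c e₀ f₀
    rw [← hc, hef₀, mul_one, ha₀f] at this
    rw [hc, ← this, zero_smul])) hQe₀ ha₀e
  letI : MulAction P (Y.Sing S) :=
    { smul := fun g v => ⟨Y.act g.1 v.1, Y.act_mem_W (hPS g.2) v.2.1, by rw [Y.pres_Q]; exact v.2.2⟩
      one_smul := fun v => Subtype.ext (Y.act_one v.1)
      mul_smul := fun g k v => Subtype.ext (Y.act_mul g.1 k.1 v.1) }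
  haveI := Fact.mk Nat.prime_two
  obtain ⟨⟨e, he, hQe⟩, hefix, he0'⟩ := hP2.exists_fixed_point_of_prime_dvd_card_of_fixed_point
    (Y.Sing S) heven (a := ⟨0, zero_mem _, Y.D.Q_zero⟩) (fun g => Subtype.ext (map_zero (Y.act g.1)))
  have he0 : e ≠ 0 := fun h => he0' (Subtype.ext h.symm)
  have hPe : ∀ g ∈ P, Y.act g e = e := fun g hg => congrArg Subtype.val (hefix ⟨g, hg⟩)
  obtain ⟨f, hf, hQf, hef⟩ := Y.exists_partner hnd he he0 hQe
  have hfe : Y.D.h f e = 1 := by rw [Y.D.symm e f, hef, map_one]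
  -- the root subgroup lies in `P`
  set R := Y.R (S := S) hQe
  have hRS : R ≤ Y.Fix S := by
    rintro g ⟨a, s, ha, -, -, hg⟩ v hv
    rw [hg, Form.root, Y.D.perp_symm (he v hv), Y.D.perp_symm (ha v hv)]
    simp
  have hR2 : IsPGroup 2 R := by
    rintro ⟨g, a, s, ha, hae, hs, hg⟩
    refine ⟨2, Subtype.ext (Y.ext fun v => ?_)⟩
    show Y.act (g ^ 4) v = Y.act 1 v
    have h2 : ∀ v, Y.act (g * g) v = Y.D.root e 0 (Y.D.h a a) v := fun v => by
      rw [Y.act_mul, hg, hg, Y.D.root_mul hQe hae hae, vdup F, CharTwo.add_self_eq_zero, zero_add]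
    rw [show g ^ 4 = (g * g) * (g * g) by simp only [pow_succ, pow_zero, one_mul, mul_assoc], Y.act_mul (g * g), h2, h2,
      Y.D.root_mul hQe (Y.D.zero_left e) (Y.D.zero_left e), add_zero, CharTwo.add_self_eq_zero,
      Y.D.zero_left, add_zero, Y.D.root_zero, Y.act_one]
  have hnorm : P ≤ Subgroup.normalizer (R : Set G) := by
    have hin : ∀ g ∈ P, ∀ r ∈ R, g * r * g⁻¹ ∈ R := by
      rintro g hg r ⟨a, s, ha, hae, hs, hr⟩
      refine ⟨Y.act g a, s, Y.act_mem_W (hPS hg) ha, ?_, by rw [Y.pres_Q]; exact hs, fun v => ?_⟩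
      · conv_lhs => rw [← hPe g hg]
        rw [Y.pres_h, hae]
      · have h1 : Y.D.h v e = Y.D.h (Y.act g⁻¹ v) e := by
          conv_lhs => rw [← hPe g hg, ← Y.act_inv' g v]
          rw [Y.pres_h]
        have h2 : Y.D.h v (Y.act g a) = Y.D.h (Y.act g⁻¹ v) a := by
          conv_lhs => rw [← Y.act_inv' g v]
          rw [Y.pres_h]
        rw [Y.act_mul, Y.act_mul, hr, Form.root, Form.root, map_add, map_add, map_smul, map_smul,
          Y.act_inv', hPe g hg, h1, h2]
    intro g hg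
    refine Subgroup.mem_normalizer_iff.mpr fun r => ⟨hin g hg r, fun h => ?_⟩
    have := hin g⁻¹ (inv_mem hg) _ h
    simpa [mul_assoc] using this
  have hRP : R ≤ P := by
    have := hmax (P ⊔ R) (sup_le hPS hRS) (hP2.to_sup_of_normal_right' hR2 hnorm) le_sup_left
    exact this ▸ le_sup_right
  -- the smaller stabiliser
  set S' : Set V := S ∪ {e, f} with hS'
  set P' : Subgroup G := P ⊓ Y.Fix S' with hP'
  have hsplit : ∀ g ∈ P, ∃ r ∈ R, r⁻¹ * g ∈ P' := by
    intro g hg
    set y := Y.act g f with hy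
    have hye : Y.D.h y e = 1 := by
      conv_lhs => rw [← hPe g hg]
      rw [Y.pres_h, hfe]
    have hyW : y ∈ Y.W S := Y.act_mem_W (hPS hg) hf
    have ha := Y.proj_mem he hf hQe hQf hef hyW
    rw [hye, one_smul] at ha
    set a := y + Y.D.h y f • e + f with hadef
    obtain ⟨haW, hae, haf⟩ := Y.mem_W_union.mp ha
    have hyeq : y = f + a + Y.D.h y f • e := by
      rw [hadef]
      calc y = y + (f + f) + (Y.D.h y f • e + Y.D.h y f • e) := by
            simp [vdup F]
        _ = _ := by abel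
    have hs : Y.D.T (Y.D.h y f) = Y.D.Q a := by
      have h0 : Y.D.Q y = 0 := by rw [hy, Y.pres_Q, hQf]
      rw [hyeq, Y.D.Q_add, Y.D.Q_add, Y.D.Q_smul, hQe, hQf, Y.D.perp_symm haf, map_zero, Y.D.smul_right,
        Y.D.add_left, hfe, hae] at h0
      simp only [zero_add, add_zero, mul_zero, mul_one, Y.D.Tσ] at h0
      exact (CharTwo.add_eq_zero.mp h0).symm
    obtain ⟨r, hr⟩ := Y.exists_root e a _ hQe hae hs
    have hrR : r ∈ R := ⟨a, _, haW, hae, hs, hr⟩
    refine ⟨r, hrR, Subgroup.mem_inf.mpr ⟨mul_mem (inv_mem (hRP hrR)) hg, ?_⟩⟩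
    rintro v (hv | hv | hv)
    · exact (mul_mem (inv_mem (hRS hrR)) (hPS hg) : r⁻¹ * g ∈ Y.Fix S) v hv
    · rw [hv, Y.act_mul, hPe g hg]; exact hPe _ (inv_mem (hRP hrR))
    · rw [Set.mem_singleton_iff.mp hv, Y.act_mul, ← hy]
      have : Y.act r f = y := by
        rw [hr, Form.root, hfe, Y.D.perp_symm haf, one_smul, zero_add, mul_one]
        exact hyeq.symm
      rw [← this, Y.act_inv]
  have hle : Y.Fix S' ≤ Y.Fix S := fun g hg v hv => hg v (Or.inl hv)
  have hP'max : Y.Max2 S' P' := by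
    refine ⟨inf_le_right, hP2.to_le inf_le_left, fun Q hQ hQ2 hPQ => le_antisymm ?_ hPQ⟩
    have hQn : Q ≤ Subgroup.normalizer (R : Set G) := by
      intro g hg
      have key : ∀ g ∈ Q, ∀ r ∈ R, g * r * g⁻¹ ∈ R := by
        rintro g hg r ⟨a, s, ha, hae, hs, hr⟩
        have hge : Y.act g e = e := hQ hg e (Or.inr (Or.inl rfl))
        refine ⟨Y.act g a, s, Y.act_mem_W (hle (hQ hg)) ha, ?_, by rw [Y.pres_Q]; exact hs, fun v => ?_⟩
        · conv_lhs => rw [← hge]
          rw [Y.pres_h, hae]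
        · have h1 : Y.D.h v e = Y.D.h (Y.act g⁻¹ v) e := by
            conv_lhs => rw [← hge, ← Y.act_inv' g v]
            rw [Y.pres_h]
          have h2 : Y.D.h v (Y.act g a) = Y.D.h (Y.act g⁻¹ v) a := by
            conv_lhs => rw [← Y.act_inv' g v]
            rw [Y.pres_h]
          rw [Y.act_mul, Y.act_mul, hr, Form.root, Form.root, map_add, map_add, map_smul, map_smul,
            Y.act_inv', hge, h1, h2]
      refine Subgroup.mem_normalizer_iff.mpr fun r => ⟨key g hg r, fun h => ?_⟩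
      have := key g⁻¹ (inv_mem hg) _ h
      simpa [mul_assoc] using this
    have hPle : P ≤ Q ⊔ R := fun g hg => by
      obtain ⟨r, hr, hk⟩ := hsplit g hg
      rw [← mul_inv_cancel_left r g]
      exact mul_mem (Subgroup.mem_sup_right hr) (Subgroup.mem_sup_left (hPQ hk))
    have := hmax (Q ⊔ R) (sup_le (hQ.trans hle) hRS) (hQ2.to_sup_of_normal_right' hR2 hQn) hPle
    exact le_inf (this ▸ le_sup_left) hQ
  have hlt : Module.finrank F (Y.W S') < n := by
    refine lt_of_lt_of_le (Submodule.finrank_lt_finrank_of_lt (lt_of_le_of_ne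
      (fun w hw => (Y.mem_W_union.mp hw).1) fun h => ?_)) hn
    have := (Y.mem_W_union.mp (show e ∈ Y.W S' from h ▸ he)).2.2
    rw [hef] at this
    exact one_ne_zero this
  have ih' := ih _ hlt S' le_rfl (Y.nd_union hnd he hf hQe hQf hef) P' hP'max
  -- squares
  obtain ⟨r, hrR, hk⟩ := hsplit x hx
  set k := r⁻¹ * x with hkdef
  have hkk : k * k ∈ ⁅P, P⁆ := Subgroup.commutator_mono inf_le_left inf_le_left (ih' k hk)
  have hrk : ⁅r⁻¹, k⁆ ∈ ⁅P, P⁆ :=
    Subgroup.commutator_mem_commutator (inv_mem (hRP hrR)) hk.1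
  have hrr : r * r ∈ ⁅P, P⁆ := by
    obtain ⟨a, s, ha, hae, hs, hr⟩ := hrR
    by_cases h0 : Y.D.h a a = 0
    · have : r * r = 1 := Y.ext fun v => by
        rw [Y.act_mul, hr, hr, Y.D.root_mul hQe hae hae, Y.act_one, vdup F,
          CharTwo.add_self_eq_zero, zero_add, h0, Y.D.root_zero]
      rw [this]
      exact one_mem _
    set μ := s * (Y.D.h a a)⁻¹
    have hfix : Y.D.σ (Y.D.h a a) = Y.D.h a a := (Y.D.symm a a).symm
    obtain ⟨t, ht⟩ := Y.D.valid (μ • a)
    have hbe : Y.D.h (μ • a) e = 0 := by rw [Y.D.smul_left, hae, mul_zero]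
    obtain ⟨q, hq⟩ := Y.exists_root e (μ • a) t hQe hbe ht
    have hqP : q ∈ P := hRP ⟨μ • a, t, Submodule.smul_mem _ _ ha, hbe, ht, hq⟩
    have hrP : r ∈ P := hRP ⟨a, s, ha, hae, hs, hr⟩
    have hq' : ∀ v, Y.act (q * r) v = Y.D.root e (μ • a + a) (t + s + Y.D.h a (μ • a)) v := fun v => by
      rw [Y.act_mul, hr, hq, Y.D.root_mul hQe hbe hae]
    have hr' : ∀ v, Y.act (r * r) v = Y.D.root e 0 (Y.D.h a a) v := fun v => by
      rw [Y.act_mul, hr, hr, Y.D.root_mul hQe hae hae, vdup F, CharTwo.add_self_eq_zero, zero_add]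
    have hμ : μ + Y.D.σ μ = 1 := by
      simp only [μ, map_mul, map_inv₀, hfix]
      rw [← add_mul, ← Y.D.diag a s hs, mul_inv_cancel₀ h0]
    have heq : r * q = r * r * (q * r) := Y.ext fun v => by
      rw [Y.act_mul r q, hr, hq, Y.D.root_mul hQe hae hbe, Y.act_mul (r * r), hr', hq',
        Y.D.root_mul hQe (Y.D.zero_left e) (by rw [Y.D.add_left, hbe, hae, add_zero]), zero_add,
        Y.D.zero_right, add_zero, Y.D.smul_left, Y.D.smul_right, add_comm a (μ • a)]
      congr 1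
      have h2 : (2 : F) = 0 := CharTwo.two_eq_zero
      linear_combination (Y.D.h a a) * hμ - (Y.D.σ μ * Y.D.h a a) * h2
    have : r * r = r * q * r⁻¹ * q⁻¹ := by rw [heq]; group
    rw [this, ← commutatorElement_def]
    exact Subgroup.commutator_mem_commutator hrP hqP
  rw [show x * x = (r * r) * ⁅r⁻¹, k⁆ * (k * k) by
    rw [hkdef, commutatorElement_def]; group]
  exact mul_mem (mul_mem hrr hrk) hkk

end Sys

/-- Every square in a Sylow 2-subgroup lies in its derived group. -/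
def SqInDerived (G : Type*) [Group G] : Prop :=
  ∀ P : Sylow 2 G, ∀ x ∈ (P : Subgroup G), x * x ∈ ⁅(P : Subgroup G), (P : Subgroup G)⁆

theorem Sys.sqInDerived {F V G : Type*} [Field F] [CharP F 2] [AddCommGroup V] [Module F V] [Group G]
    [Finite V] (Y : Sys F V G) (hnd : ∀ e, e ≠ 0 → ∃ w, Y.D.h e w ≠ 0) : SqInDerived G := by
  intro P x hx
  refine Y.sq_mem _ ∅ le_rfl ?_ P ⟨fun g _ v hv => hv.elim, P.isPGroup', fun Q _ hQ2 hPQ => ?_⟩ x hx
  · intro e _ he0
    obtain ⟨w, hw⟩ := hnd e he0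
    exact ⟨w, fun v hv => hv.elim, hw⟩
  · exact P.is_maximal' hQ2 hPQ

theorem SqInDerived.of_surjective {G H : Type*} [Group G] [Group H] [Finite G] (hG : SqInDerived G)
    {π : G →* H} (hπ : Function.Surjective π) : SqInDerived H := by
  haveI := Fact.mk Nat.prime_two
  intro P x hx
  obtain ⟨P₀, hP₀⟩ := Sylow.mapSurjective_surjective hπ 2 P
  rw [← hP₀, Sylow.coe_mapSurjective] at hx ⊢
  obtain ⟨y, hy, rfl⟩ := hx
  rw [← map_mul, ← Subgroup.map_commutator]
  exact Subgroup.mem_map_of_mem π (hG P₀ y hy)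

theorem SqInDerived.equiv {G H : Type*} [Group G] [Group H] [Finite G] (hG : SqInDerived G)
    (e : G ≃* H) : SqInDerived H := hG.of_surjective (π := e.toMonoidHom) e.surjective

theorem SqInDerived.sq_mem_commutator {G : Type*} [Group G] (hG : SqInDerived G) (P : Sylow 2 G)
    (x : (P : Subgroup G)) : x ^ 2 ∈ commutator (P : Subgroup G) := by
  have h := hG P x x.2
  rw [← Subgroup.map_subtype_commutator] at h
  obtain ⟨y, hy, hyx⟩ := h
  have : y = x ^ 2 := Subtype.ext (by rw [sq]; exact hyx)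
  exact this ▸ hy

end CfsgLib.SylowSquares
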