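import Cfsg.Agent.Lib.SylowSquares.Forms

/-!
Criteria for squares in Sylow 2-subgroups to lie in the derived subgroup.
-/

set_option autoImplicit false

namespace CfsgLib.SylowSquares

open scoped commutatorElement Pointwise

variable {G : Type*} [Group G]

/-- Squares lie in the derived group as soon as this holds for generators. -/
theorem sq_mem_of_closure {P : Subgroup G} {X : Set G} (hP : P = Subgroup.closure X)
    (hX : ∀ x ∈ X, x * x ∈ ⁅P, P⁆) : ∀ x ∈ P, x * x ∈ ⁅P, P⁆ := by
  intro x hx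
  have hx' := hx
  rw [hP] at hx'
  suffices x ∈ P ∧ x * x ∈ ⁅P, P⁆ from this.2
  clear hx
  induction hx' using Subgroup.closure_induction with
  | mem y hy => exact ⟨hP ▸ Subgroup.subset_closure hy, hX y hy⟩
  | one => exact ⟨one_mem _, by rw [mul_one]; exact one_mem _⟩
  | mul y z _ _ hy hz =>
    refine ⟨mul_mem hy.1 hz.1, ?_⟩
    rw [show y * z * (y * z) = y * y * ⁅y⁻¹, z⁆ * (z * z) by rw [commutatorElement_def]; group]
    exact mul_mem (mul_mem hy.2 (Subgroup.commutator_mem_commutator (inv_mem hy.1) hz.1)) hz.2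
  | inv y _ hy =>
    refine ⟨inv_mem hy.1, ?_⟩
    rw [← mul_inv_rev]
    exact inv_mem hy.2

/-- The product rule for squares modulo the derived group. -/
theorem mul_sq_mem {P : Subgroup G} {x z : G} (hx : x ∈ P) (hz : z ∈ P) (hxx : x * x ∈ ⁅P, P⁆)
    (hzz : z * z ∈ ⁅P, P⁆) : x * z * (x * z) ∈ ⁅P, P⁆ := by
  rw [show x * z * (x * z) = x * x * ⁅x⁻¹, z⁆ * (z * z) by rw [commutatorElement_def]; group]
  exact mul_mem (mul_mem hxx (Subgroup.commutator_mem_commutator (inv_mem hx) hz)) hzz

/-- One Sylow subgroup suffices. -/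
theorem SqInDerived.of_sylow [Finite G] (S : Sylow 2 G)
    (h : ∀ x ∈ (S : Subgroup G), x * x ∈ ⁅(S : Subgroup G), (S : Subgroup G)⁆) : SqInDerived G := by
  haveI := Fact.mk Nat.prime_two
  intro P x hx
  obtain ⟨g, rfl⟩ := MulAction.exists_smul_eq G S P
  rw [Sylow.coe_subgroup_smul] at hx ⊢
  obtain ⟨y, hy, rfl⟩ := hx
  rw [show MulAut.conj g • (S : Subgroup G) = (S : Subgroup G).map
    (MulAut.conj g).toMonoidHom from rfl, ← Subgroup.map_commutator]
  have := Subgroup.mem_map_of_mem (MulAut.conj g).toMonoidHom (h y hy)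
  rw [map_mul] at this
  exact this

/-- A 2-subgroup of odd index suffices. -/
theorem SqInDerived.of_subgroup [Finite G] {U : Subgroup G} (hU : IsPGroup 2 U) (hidx : ¬ 2 ∣ U.index)
    (h : ∀ x ∈ U, x * x ∈ ⁅U, U⁆) : SqInDerived G := by
  haveI := Fact.mk Nat.prime_two
  exact SqInDerived.of_sylow (hU.toSylow hidx) h

/-- Transport of the condition from an overgroup to a subgroup containing the two-group. -/
theorem sq_mem_subgroupOf {H V : Subgroup G} (hVH : V ≤ H) (h : ∀ x ∈ V, x * x ∈ ⁅V, V⁆) :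
    ∀ x ∈ V.subgroupOf H, x * x ∈ ⁅V.subgroupOf H, V.subgroupOf H⁆ := by
  intro x hx
  have e : (V.subgroupOf H).map H.subtype = V := Subgroup.map_subgroupOf_eq_of_le hVH
  have h1 : H.subtype (x * x) ∈ (⁅V.subgroupOf H, V.subgroupOf H⁆).map H.subtype := by
    rw [Subgroup.map_commutator, e, map_mul]
    exact h x hx
  exact (Subgroup.mem_map_iff_mem H.subtype_injective).mp h1

end CfsgLib.SylowSquares
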