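import Cfsg.Agent.Lib.SylowSquares.Gen
import Cfsg.Agent.Lib.PSLn.Sylow

/-!
Squares in Sylow 2-subgroups of the projective special linear groups in characteristic two.
-/

set_option autoImplicit false

namespace CfsgLib.SylowSquares

open Matrix CfsgLib.PSLn

variable {F : Type*} [Field F] [Fintype F] {n : ℕ}

/-- Elementary matrices generate the unitriangular group. -/
theorem upper_le_closure : upper F n ≤
    Subgroup.closure {x | ∃ (i j : Fin n) (h : i < j) (a : F), xx i j h.ne a = x} := by
  classical
  intro A
  generalize hk : ((Finset.univ : Finset (Fin n × Fin n)).filter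
    fun p => p.1 < p.2 ∧ A.1 p.1 p.2 ≠ 0).card = k
  induction k using Nat.strong_induction_on generalizing A with
  | _ k ih =>
    intro hA
    by_cases hne : ∃ p : Fin n × Fin n, p.1 < p.2 ∧ A.1 p.1 p.2 ≠ 0
    · obtain ⟨p, hp, hmin⟩ := Finset.exists_min_image
        ((Finset.univ : Finset (Fin n × Fin n)).filter fun p => p.1 < p.2 ∧ A.1 p.1 p.2 ≠ 0)
        (fun p => p.2) (by obtain ⟨p, hp⟩ := hne; exact ⟨p, by simpa using hp⟩)
      obtain ⟨i, j⟩ := p
      simp only [Finset.mem_filter, Finset.mem_univ, true_and] at hp hmin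
      have hcol : ∀ a, A.1 a i = (1 : Matrix (Fin n) (Fin n) F) a i := by
        intro a
        by_cases ha : i ≤ a
        · exact hA a i ha
        · rw [one_apply_ne (ne_of_lt (not_le.mp ha))]
          by_contra h
          exact absurd (hmin (a, i) ⟨not_le.mp ha, h⟩) (not_le.mpr hp.1)
      set c := A.1 i j with hc
      set B := A * xx i j hp.1.ne (-c) with hB
      have hBv : ∀ a b, B.1 a b = if a = i ∧ b = j then 0 else A.1 a b := by
        intro a b
        rw [hB, show (A * xx i j hp.1.ne (-c)).1 = A.1 * (xx i j hp.1.ne (-c)).1 from rfl, coe_xx, Matrix.mul_add, Matrix.mul_one, Matrix.add_apply]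
        by_cases hb : b = j
        · subst hb
          rw [Matrix.mul_single_apply_same, hcol a]
          by_cases ha : a = i
          · subst ha; rw [one_apply_eq, one_mul, if_pos ⟨rfl, rfl⟩, ← hc, add_neg_cancel]
          · rw [one_apply_ne ha, zero_mul, add_zero, if_neg fun h => ha h.1]
        · rw [Matrix.mul_single_apply_of_ne (hbj := hb), add_zero, if_neg fun h => hb h.2]
      have hlt : ((Finset.univ : Finset (Fin n × Fin n)).filter
          fun p => p.1 < p.2 ∧ B.1 p.1 p.2 ≠ 0).card < k := by
        rw [← hk]
        refine Finset.card_lt_card (Finset.ssubset_iff_of_subset ?_ |>.mpr ⟨(i, j), ?_, ?_⟩)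
        · intro q hq
          simp only [Finset.mem_filter, Finset.mem_univ, true_and, hBv] at hq ⊢
          refine ⟨hq.1, fun h => hq.2 ?_⟩
          split <;> first | rfl | exact h
        · simpa using hp
        · simp [hBv]
      have h1 := ih _ hlt (A := B) rfl (mul_mem hA (xx_mem_upper hp.1 _))
      have h2 : xx i j hp.1.ne (-c) ∈
          Subgroup.closure {x | ∃ (i j : Fin n) (h : i < j) (a : F), xx i j h.ne a = x} :=
        Subgroup.subset_closure ⟨i, j, hp.1, -c, rfl⟩
      have := mul_mem h1 (inv_mem h2)
      rwa [hB, mul_inv_cancel_right] at this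
    · push Not at hne
      have : A = 1 := by
        apply Subtype.ext
        ext a b
        by_cases h : b ≤ a
        · simpa using hA a b h
        · show A.1 a b = (1 : Matrix (Fin n) (Fin n) F) a b
          rw [one_apply_ne (ne_of_lt (not_le.mp h))]
          exact hne (a, b) (not_le.mp h)
      rw [this]
      exact one_mem _

theorem psl (hchar : CharP F 2) :
    SqInDerived (Matrix.ProjectiveSpecialLinearGroup (Fin n) F) := by
  haveI := Fact.mk Nat.prime_two
  haveI : Finite (Matrix.ProjectiveSpecialLinearGroup (Fin n) F) := Quotient.finite _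
  refine SqInDerived.of_sylow (upperSylow (F := F) (n := n) 2) ?_
  rw [coe_upperSylow]
  have hU : upper F n = Subgroup.closure {x | ∃ (i j : Fin n) (h : i < j) (a : F), xx i j h.ne a = x} :=
    le_antisymm upper_le_closure ((Subgroup.closure_le _).mpr
      (by rintro _ ⟨i, j, h, a, rfl⟩; exact xx_mem_upper h a))
  have key : ∀ x ∈ upper F n, x * x ∈ ⁅upper F n, upper F n⁆ := by
    refine sq_mem_of_closure hU ?_
    rintro _ ⟨i, j, h, a, rfl⟩
    have : xx i j h.ne a * xx i j h.ne a = 1 := by
      apply Subtype.ext
      show (xx i j h.ne a).1 * (xx i j h.ne a).1 = (1 : Matrix (Fin n) (Fin n) F)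
      rw [coe_xx, Matrix.add_mul, Matrix.mul_add,
        Matrix.mul_add, Matrix.one_mul, Matrix.mul_one, Matrix.one_mul,
        Matrix.single_mul_single_of_ne (h := h.ne'), add_zero, add_assoc, ← Matrix.single_add,
        CharTwo.add_self_eq_zero, Matrix.single_zero, add_zero]
    rw [this]
    exact one_mem _
  rintro _ ⟨x, rfl⟩
  have h : x * x ∈ commutator (upper F n) := by
    rw [← Subgroup.mem_map_iff_mem (upper F n).subtype_injective, Subgroup.map_subtype_commutator]
    exact key x.1 x.2
  rw [← map_mul, MonoidHom.range_eq_map, ← Subgroup.map_commutator]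
  exact Subgroup.mem_map_of_mem _ h

end CfsgLib.SylowSquares
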