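import Cfsg.Agent.Lib.SylowSquares.Gen
import Cfsg.Agent.Lib.Chev.RootPairs
import Cfsg.Agent.Lib.Chev.Twist.OrderE6
import Cfsg.Agent.Lib.Chev.Twist.OrderD4
import Cfsg.Agent.Lib.Chev.Twist.OrderF4

/-!
Squares in Sylow 2-subgroups of twisted groups in characteristic two.
-/

set_option autoImplicit false
set_option linter.unusedSectionVars false
set_option linter.dupNamespace false

namespace CfsgLib.Chev

open Cfsg.Lie Matrix CfsgLib.SylowSquares
open scoped commutatorElement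

variable {D : ChevalleyDatum}

namespace Chev

variable {Φ : Chev D} {F : Type*} [Field F]

/-- A subgroup generated by pairwise commuting root elements is elementary abelian. -/
theorem sq_one_of_commute [CharP F 2] {T : Fin D.nroots → Prop}
    (hc : ∀ r s, T r → T s → ∀ a b : F, Commute (Φ.toAlg.xg r a) (Φ.toAlg.xg s b))
    {x : GL D.Idx F} (hx : x ∈ Φ.US F T) : x * x = 1 := by
  have hcen : Φ.US F T ≤ Subgroup.centralizer (Φ.US F T : Set (GL D.Idx F)) := by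
    rw [US, Subgroup.closure_le]
    rintro _ ⟨r, a, hr, rfl⟩
    rw [SetLike.mem_coe, Subgroup.mem_centralizer_iff]
    intro z hz
    induction hz using Subgroup.closure_induction with
    | mem y hy => obtain ⟨s, b, hs, rfl⟩ := hy; exact hc s r hs hr b a
    | one => exact (Commute.one_left _).eq
    | mul y w _ _ hy hw => exact (Commute.mul_left hy hw).eq
    | inv y _ hy => exact (Commute.inv_left hy).eq
  induction hx using Subgroup.closure_induction with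
  | mem y hy => obtain ⟨r, a, -, rfl⟩ := hy; exact Φ.xg_add_self r a
  | one => exact mul_one 1
  | mul y w hy hw ihy ihw =>
    have e : w * y = y * w := (Subgroup.mem_centralizer_iff.mp (hcen hw) y hy).symm
    rw [mul_assoc, ← mul_assoc w y, e, mul_assoc y w, ihw, mul_one, ihy]
  | inv y _ ihy => rw [← _root_.mul_inv_rev, ihy, _root_.inv_one]

theorem commute_self (r : Fin D.nroots) (a b : F) : Commute (Φ.toAlg.xg r a) (Φ.toAlg.xg r b) := by
  show _ = _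
  rw [← Φ.toAlg.xg_add, ← Φ.toAlg.xg_add, add_comm]

namespace Tw

variable {S : Φ.Sym} {T : Tw S F} {G1 : Subgroup (GL D.Idx F)} {a : Fin S.m} {i j l : Fin D.rank}

theorem One.sq_root [CharP F 2] (h : One (S := S) a i) :
    ∀ x ∈ Φ.US F (S.PJ a) ⊓ T.fix, x * x ∈ ⁅Φ.US F (S.PJ a) ⊓ T.fix, Φ.US F (S.PJ a) ⊓ T.fix⁆ := by
  intro x hx
  rw [sq_one_of_commute (fun r s hr hs => by rw [h.hPJ r hr, h.hPJ s hs]; exact commute_self _) hx.1]
  exact one_mem _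

theorem Two.sq_root [CharP F 2] (h : Two (S := S) a i j) :
    ∀ x ∈ Φ.US F (S.PJ a) ⊓ T.fix, x * x ∈ ⁅Φ.US F (S.PJ a) ⊓ T.fix, Φ.US F (S.PJ a) ⊓ T.fix⁆ := by
  intro x hx
  rw [sq_one_of_commute (fun r s hr hs a b => ?_) hx.1]
  · exact one_mem _
  · rcases h.hPJ r hr with rfl | rfl <;> rcases h.hPJ s hs with rfl | rfl
    exacts [commute_self _ _ _, (orth_comms h.orth _ _).1, (orth_comms h.orth _ _).1.symm,
      commute_self _ _ _]

theorem Three.sq_root [CharP F 2] (h : Three (S := S) a i j l) :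
    ∀ x ∈ Φ.US F (S.PJ a) ⊓ T.fix, x * x ∈ ⁅Φ.US F (S.PJ a) ⊓ T.fix, Φ.US F (S.PJ a) ⊓ T.fix⁆ := by
  intro x hx
  rw [sq_one_of_commute (fun r s hr hs a b => ?_) hx.1]
  · exact one_mem _
  · rcases h.hPJ r hr with rfl | rfl | rfl <;> rcases h.hPJ s hs with rfl | rfl | rfl
    exacts [commute_self _ _ _, (orth_comms h.oij _ _).1, (orth_comms h.oil _ _).1,
      (orth_comms h.oij _ _).1.symm, commute_self _ _ _, (orth_comms h.ojl _ _).1,
      (orth_comms h.oil _ _).1.symm, (orth_comms h.ojl _ _).1.symm, commute_self _ _ _]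

theorem Gen.sq_Uinv (h : T.Gen G1)
    (hroot : ∀ a, ∀ x ∈ Φ.US F (S.PJ a) ⊓ T.fix, x * x ∈ ⁅Φ.US F (S.PJ a) ⊓ T.fix, Φ.US F (S.PJ a) ⊓ T.fix⁆)
    {π : Equiv.Perm (Fin D.nroots)} (hπ : π ∈ S.W1) :
    ∀ x ∈ T.Uinv π, x * x ∈ ⁅T.Uinv π, T.Uinv π⁆ := by
  classical
  refine S.W1_induction (Q := fun π => ∀ x ∈ T.Uinv π, x * x ∈ ⁅T.Uinv π, T.Uinv π⁆) ?_
    (fun π hπ a hd ih => ?_) hπ
  · intro x hx
    have hbot : T.Uinv 1 = ⊥ := by
      have : Φ.US F (Φ.Inv 1) = ⊥ := by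
        rw [US, eq_bot_iff, Subgroup.closure_le]
        rintro _ ⟨r, t, hr, -⟩
        exact absurd hr.1 hr.2
      rw [Uinv, this, bot_inf_eq]
    rw [hbot, Subgroup.mem_bot] at hx
    rw [hx, mul_one]
    exact one_mem _
  · have hW := (S.mem_W1.mp hπ).1
    obtain ⟨n, hn1, -, hn3, -, hsp⟩ := h.split hW hd hπ
    have hnf := h.le_fix hn1
    have hleA : Φ.US F (S.PJ a) ⊓ T.fix ≤ T.Uinv π := fun x hx =>
      Subgroup.mem_inf.mpr ⟨(Φ.US_mono (F := F) (fun r hr => hd r hr)) hx.1, hx.2⟩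
    have hleB : (T.Uinv (π * S.w a)).map (MulAut.conj n).toMonoidHom ≤ T.Uinv π := by
      rintro _ ⟨y, hy, rfl⟩
      exact Subgroup.mem_inf.mpr ⟨Φ.map_US_le hn3 (T := Φ.Inv π)
        (fun r hr => (S.inv_split hW hd _).mpr (Or.inr (by rwa [S.w_w_apply]))) y hy.1,
        mul_mem (mul_mem hnf hy.2) (Subgroup.inv_mem _ hnf)⟩
    intro u hu
    obtain ⟨x, hx, y, hy, rfl⟩ := hsp u hu
    refine mul_sq_mem (hleA hx) (hleB (Subgroup.mem_map_of_mem (MulAut.conj n).toMonoidHom hy))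
      (Subgroup.commutator_mono hleA hleA (hroot a x hx)) ?_
    have h1 := Subgroup.mem_map_of_mem (MulAut.conj n).toMonoidHom (ih y hy)
    rw [Subgroup.map_commutator, map_mul] at h1
    exact Subgroup.commutator_mono hleB hleB h1

theorem Gen.sqInDerived [Finite F] (h : T.Gen G1)
    (hroot : ∀ a, ∀ x ∈ Φ.US F (S.PJ a) ⊓ T.fix, x * x ∈ ⁅Φ.US F (S.PJ a) ⊓ T.fix, Φ.US F (S.PJ a) ⊓ T.fix⁆)
    (k d M : ℕ) (hU : Nat.card ↥(D.posUnipotent F ⊓ G1) = 2 ^ k) (hG : d * Nat.card G1 = 2 ^ k * M)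
    (hM : ¬ 2 ∣ M) : SqInDerived ↥G1 := by
  classical
  haveI : Finite ↥G1 := Subgroup.instFiniteSubtypeMem _
  obtain ⟨π, hπ, hi⟩ := S.exists_longest
  have hUeq : D.posUnipotent F ⊓ G1 = T.Uinv π := by
    rw [Uinv, show Φ.Inv π = Φ.toTables.Pos from funext fun r => propext (hi r), h.eq_fix,
      Φ.posUnipotent_eq_US]
  set U := (D.posUnipotent F ⊓ G1).subgroupOf G1
  have hcard : Nat.card U = 2 ^ k := by
    rw [Nat.card_congr (Subgroup.subgroupOfEquivOfLe inf_le_right).toEquiv, hU]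
  refine SqInDerived.of_subgroup (U := U) (IsPGroup.of_card hcard) (fun hdvd => hM ?_)
    (sq_mem_subgroupOf inf_le_right ?_)
  · rw [← Subgroup.card_mul_index U, hcard, mul_left_comm] at hG
    rw [← Nat.eq_of_mul_eq_mul_left (by positivity) hG]
    exact dvd_mul_of_dvd_right hdvd _
  · rw [hUeq]
    exact h.sq_Uinv hroot hπ

end Tw

end Chev

theorem two_dvd_of_card {K : Type*} [Field K] [Fintype K] [CharP K 2] {q e : ℕ} (hq : IsPrimePow q)
    (hK : Fintype.card K = q ^ e) : ∃ k, q = 2 ^ k ∧ k ≠ 0 := by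
  haveI := Fact.mk Nat.prime_two
  obtain ⟨f, -, hf⟩ := FiniteField.card K 2
  have h : q ∣ 2 ^ (f : ℕ) := by
    rcases e with _ | e
    · have := Fintype.one_lt_card (α := K)
      rw [hK, pow_zero] at this
      omega
    · exact ⟨q ^ e, by rw [← hf, hK, pow_succ']⟩
  obtain ⟨k, -, rfl⟩ := (Nat.dvd_prime_pow Nat.prime_two).mp h
  exact ⟨k, rfl, fun hk => by have := hq.one_lt; subst hk; simp at this⟩

theorem T2E6.sqInDerived {K : Type*} [Field K] [Fintype K] [CharP K 2] {q : ℕ} (hq : IsPrimePow q)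
    (hK : Fintype.card K = q ^ 2) : SqInDerived ↥(twistedE6 K q) := by
  obtain ⟨k, rfl, hk⟩ := two_dvd_of_card hq hK
  refine (T2E6.gen hq hK).sqInDerived (fun a => ?_) (k * 36) (Nat.gcd 3 (2 ^ k + 1))
    (((2 ^ k) ^ 2 - 1) * ((2 ^ k) ^ 5 + 1) * ((2 ^ k) ^ 6 - 1) * ((2 ^ k) ^ 8 - 1) * ((2 ^ k) ^ 9 + 1) *
      ((2 ^ k) ^ 12 - 1)) ?_ ?_ ?_
  · match a with
    | ⟨0, _⟩ => exact T2E6.orb0.sq_root
    | ⟨1, _⟩ => exact T2E6.orb1.sq_root
    | ⟨2, _⟩ => exact T2E6.orb2.sq_root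
    | ⟨3, _⟩ => exact T2E6.orb3.sq_root
  · rw [T2E6.card_U hq hK, pow_mul]
  · rw [T2E6.card_G hq hK, pow_mul]
    ring
  · have hev : ∀ i, i ≠ 0 → 2 ∣ (2 ^ k) ^ i := fun i hi => dvd_pow (dvd_pow_self 2 hk) hi
    have hm : ∀ i, i ≠ 0 → ¬ 2 ∣ (2 ^ k) ^ i - 1 := fun i hi => by
      have := hev i hi
      have : 0 < (2 ^ k) ^ i := by positivity
      omega
    have hp : ∀ i, i ≠ 0 → ¬ 2 ∣ (2 ^ k) ^ i + 1 := fun i hi => by
      have := hev i hi
      omega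
    simp only [Nat.prime_two.dvd_mul, not_or]
    exact ⟨⟨⟨⟨⟨hm 2 (by norm_num), hp 5 (by norm_num)⟩, hm 6 (by norm_num)⟩, hm 8 (by norm_num)⟩,
      hp 9 (by norm_num)⟩, hm 12 (by norm_num)⟩

theorem T3D4.sqInDerived {K : Type*} [Field K] [Fintype K] [CharP K 2] {q : ℕ} (hq : IsPrimePow q)
    (hK : Fintype.card K = q ^ 3) : SqInDerived ↥(twistedD4 K q) := by
  obtain ⟨k, rfl, hk⟩ := two_dvd_of_card hq hK
  refine (T3D4.gen hq hK).sqInDerived (fun a => ?_) (k * 12) 1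
    (((2 ^ k) ^ 2 - 1) * ((2 ^ k) ^ 6 - 1) * ((2 ^ k) ^ 8 + (2 ^ k) ^ 4 + 1)) ?_ ?_ ?_
  · match a with
    | ⟨0, _⟩ => exact T3D4.orb0.sq_root
    | ⟨1, _⟩ => exact T3D4.orb1.sq_root
  · rw [T3D4.card_U hq hK, pow_mul]
  · rw [one_mul, T3D4.card_G hq hK, pow_mul]
    ring
  · have hev : ∀ i, i ≠ 0 → 2 ∣ (2 ^ k) ^ i := fun i hi => dvd_pow (dvd_pow_self 2 hk) hi
    have h2 := hev 2 (by norm_num)
    have h6 := hev 6 (by norm_num)
    have h8 := hev 8 (by norm_num)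
    have h4 := hev 4 (by norm_num)
    have p2 : 0 < (2 ^ k) ^ 2 := by positivity
    have p6 : 0 < (2 ^ k) ^ 6 := by positivity
    simp only [Nat.prime_two.dvd_mul, not_or]
    exact ⟨⟨by omega, by omega⟩, by omega⟩

namespace T2F4

open Chev

theorem PB2_mul_sq {K : Type*} [Field K] {ra rb rc rd : Fin Cfsg.Lie.chevF4.nroots}
    (h : B2Rel CfsgLib.Chev.chevF4 K ra rb rc rd)
    (hcen : ∀ r ∈ [ra, rb], ∀ s ∈ [rc, rd], ∀ x y : K,
      Commute (CfsgLib.Chev.chevF4.toAlg.xg r x) (CfsgLib.Chev.chevF4.toAlg.xg s y))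
    (a b c d a' b' c' d' : K) :
    PB2 CfsgLib.Chev.chevF4 ra rb rc rd a b c d * PB2 CfsgLib.Chev.chevF4 ra rb rc rd a' b' c' d' =
      PB2 CfsgLib.Chev.chevF4 ra rb rc rd (a + a') (b + b') (c + c' + a' * b) (d + d' + a' * b ^ 2) := by
  set A := CfsgLib.Chev.chevF4.toAlg
  have z : ∀ r ∈ [ra, rb], ∀ x c d : K, A.xg rc c * A.xg rd d * A.xg r x =
      A.xg r x * (A.xg rc c * A.xg rd d) := fun r hr x c d =>
    ((hcen r hr rc (by simp) x c).mul_right (hcen r hr rd (by simp) x d)).eq.symm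
  have zz : ∀ c d c' d' : K, A.xg rc c * A.xg rd d * (A.xg rc c' * A.xg rd d') =
      A.xg rc (c + c') * A.xg rd (d + d') := fun c d c' d' => by
    rw [A.xg_add, A.xg_add, mul_assoc, ← mul_assoc (A.xg rd d), ← (h.cd c' d).eq]
    simp only [mul_assoc]; try rfl
  calc _ = A.xg rb a * (A.xg ra b * A.xg rb a') * A.xg ra b' *
        ((A.xg rc c * A.xg rd d) * (A.xg rc c' * A.xg rd d')) := by
        show A.xg rb a * A.xg ra b * (A.xg rc c * A.xg rd d) *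
          (A.xg rb a' * A.xg ra b' * (A.xg rc c' * A.xg rd d')) = _
        rw [← mul_assoc (A.xg rb a * A.xg ra b * _), ← mul_assoc (A.xg rb a * A.xg ra b * _),
          mul_assoc (A.xg rb a * A.xg ra b), z rb (by simp), ← mul_assoc (A.xg rb a * A.xg ra b),
          mul_assoc (A.xg rb a * A.xg ra b * A.xg rb a'), z ra (by simp)]
        simp only [mul_assoc]; try rfl
    _ = A.xg rb a * A.xg rb a' * (A.xg ra b * A.xg ra b') *
        ((A.xg rc (a' * b) * A.xg rd (a' * b ^ 2)) *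
          ((A.xg rc c * A.xg rd d) * (A.xg rc c' * A.xg rd d'))) := by
        rw [h.swap a' b, mul_assoc (A.xg rb a), mul_assoc (A.xg rb a' * A.xg ra b), z ra (by simp)]
        simp only [mul_assoc]; try rfl
    _ = _ := by
        rw [← A.xg_add, ← A.xg_add, zz, zz]
        show _ = A.xg rb (a + a') * A.xg ra (b + b') * _
        congr 3 <;> ring

variable {K : Type*} [Field K] [Fintype K] {m : ℕ} (hK : Fintype.card K = 2 ^ (2 * m + 1))

include hK in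
theorem cen : ∀ r ∈ [rx 27, rx 25], ∀ s ∈ [rx 28, rx 30], ∀ x y : K,
    Commute (CfsgLib.Chev.chevF4.toAlg.xg r x) (CfsgLib.Chev.chevF4.toAlg.xg s y) := by
  haveI := charP_two hK
  intro r hr s hs x y
  have h : ∀ r ∈ [rx 27, rx 25], ∀ s ∈ [rx 28, rx 30], s ≠ r ∧ s ≠ r.rev ∧
      ∀ c ∈ Cfsg.Lie.chevF4.commTerms r.val s.val, c.2.1 % 2 = 0 := by decide +kernel
  obtain ⟨h1, h2, h3⟩ := h r hr s hs
  exact CfsgLib.Chev.chevF4.commute_of_even h1 h2 h3 x y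

include hK in
theorem exists_twist_ne (hm : 1 ≤ m) : ∃ l : K, l ^ 2 ^ m + l ≠ 0 := by
  classical
  haveI := charP_two hK
  by_contra h
  push Not at h
  have hfix : ∀ l : K, l ^ 2 ^ m = l := fun l => CharTwo.add_eq_zero.mp (h l)
  have hsub : (Finset.univ : Finset K) ⊆ {0, 1} := by
    intro l _
    have h1 := (pow_q hK l).1
    rw [hfix, mul_comm 2, pow_mul, hfix, sq] at h1
    rcases eq_or_ne l 0 with h0 | h0
    · simp [h0]
    · simp [mul_left_cancel₀ h0 (h1.trans (mul_one l).symm)]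
  have h1 := (Finset.card_le_card hsub).trans Finset.card_le_two
  rw [Finset.card_univ, hK] at h1
  have : 2 ^ 2 ≤ 2 ^ (2 * m + 1) := Nat.pow_le_pow_right (by norm_num) (by omega)
  omega

include hK in
theorem norm_surj (c : K) : ∃ t : K, t ^ 2 ^ m * t = c := by
  haveI := charP_two hK
  refine Finite.surjective_of_injective (f := fun t : K => t ^ 2 ^ m * t) ?_ c
  intro x y hxy
  have hxy' : x ^ 2 ^ m * x = y ^ 2 ^ m * y := hxy
  have hz : ∀ x : K, x ^ 2 ^ m * x = 0 → x = 0 := fun x hx => by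
    rcases mul_eq_zero.mp hx with h | h
    · exact pow_eq_zero_iff (by positivity) |>.mp h
    · exact h
  rcases eq_or_ne y 0 with rfl | hy
  · exact hz x (by rw [hxy', mul_zero])
  have hu : (x / y) ^ 2 ^ m * (x / y) = 1 := by
    rw [div_pow, div_mul_div_comm, hxy', div_self (mul_ne_zero (pow_ne_zero _ hy) hy)]
  set u := x / y
  have h1 : (u ^ 2 ^ m) ^ (2 * 2 ^ m) * u ^ (2 * 2 ^ m) = 1 := by rw [← mul_pow, hu, one_pow]
  rw [(pow_q hK u).1] at h1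
  have hu0 : u ≠ 0 := right_ne_zero_of_mul_eq_one hu
  have h2 : u ^ (2 * 2 ^ m) = u ^ 2 ^ m :=
    mul_left_cancel₀ hu0 (by rw [h1, mul_comm u, hu])
  have h3 : u ^ 2 ^ m = 1 := by
    rw [mul_comm 2, pow_mul, sq] at h2
    exact mul_left_cancel₀ (pow_ne_zero _ hu0) (h2.trans (mul_one _).symm)
  rw [h3, one_mul] at hu
  exact (div_eq_one_iff_eq hy).mp hu

include hK in
theorem sq_root1 (hm : 1 ≤ m) : ∀ x ∈ CfsgLib.Chev.chevF4.US K (S.PJ (ox 1)) ⊓ (tw hK).fix,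
    x * x ∈ ⁅CfsgLib.Chev.chevF4.US K (S.PJ (ox 1)) ⊓ (tw hK).fix,
      CfsgLib.Chev.chevF4.US K (S.PJ (ox 1)) ⊓ (tw hK).fix⁆ := by
  haveI := charP_two hK
  intro x hx
  obtain ⟨t, u, rfl⟩ := (fix_one_iff hK).mp hx
  obtain ⟨l, hl⟩ := exists_twist_ne hK hm
  obtain ⟨s, hs⟩ := norm_surj hK (t ^ 2 ^ m * t / (l ^ 2 ^ m + l))
  have hmem : ∀ a, W4 m (rx 27) (rx 25) (rx 28) (rx 30) a 0 ∈
      CfsgLib.Chev.chevF4.US K (S.PJ (ox 1)) ⊓ (tw hK).fix := fun a => (fix_one_iff hK).mpr ⟨a, 0, rfl⟩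
  set g := W4 m (rx 27) (rx 25) (rx 28) (rx 30) s (0 : K) with hg
  set w := W4 m (rx 27) (rx 25) (rx 28) (rx 30) (l * s) (0 : K) with hw
  set X := W4 m (rx 27) (rx 25) (rx 28) (rx 30) t u with hX
  have hh2 := hc2 hK
  have hc : s ^ 2 ^ m * (l * s) + (l * s) ^ 2 ^ m * s = t ^ 2 ^ m * t := by
    rw [mul_pow, show s ^ 2 ^ m * (l * s) + l ^ 2 ^ m * s ^ 2 ^ m * s =
      (s ^ 2 ^ m * s) * (l ^ 2 ^ m + l) by ring, hs, div_mul_cancel₀ _ hl]
  have hd : (s ^ 2 ^ m) ^ 2 * (l * s) + ((l * s) ^ 2 ^ m) ^ 2 * s = (t ^ 2 ^ m) ^ 2 * t := by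
    have he : ∀ a b : K, (a ^ 2 ^ m * b) ^ (2 * 2 ^ m) = a * (b ^ 2 ^ m) ^ 2 := fun a b => by
      rw [mul_pow, (pow_q hK a).1, mul_comm 2, pow_mul]
    have hadd : ∀ a b : K, (a + b) ^ (2 * 2 ^ m) = a ^ (2 * 2 ^ m) + b ^ (2 * 2 ^ m) := fun a b => by
      rw [mul_comm 2, pow_mul, pow_e_add hK, CharTwo.add_sq, ← pow_mul, ← pow_mul]
    have h := congrArg (fun z : K => z ^ (2 * 2 ^ m)) hc
    simp only [hadd, he] at h
    linear_combination h
  have key : g * w = w * g * (X * X) := by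
    simp only [hg, hw, hX, W4_eq hK, PB2_mul_sq (relU hK) (cen hK),
      zero_pow (show 2 * 2 ^ m ≠ 0 by positivity)]
    congr 1
    · linear_combination (-t) * hh2
    · linear_combination (-(t ^ 2 ^ m)) * hh2
    · linear_combination hc + (-(s * (l * s) ^ 2 ^ m) - u - t * ((l * s) ^ 2 ^ m + s ^ 2 ^ m)) * hh2
    · linear_combination hd + (-(s * ((l * s) ^ 2 ^ m) ^ 2) - (u ^ (2 * 2 ^ m) + t * (t ^ 2 ^ m) ^ 2) -
        t * ((l * s) ^ 2 ^ m + s ^ 2 ^ m) ^ 2) * hh2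
  have : X * X = ⁅g⁻¹, w⁻¹⁆ := by
    rw [commutatorElement_def, inv_inv, inv_inv,
      show g⁻¹ * w⁻¹ * g * w = g⁻¹ * w⁻¹ * (g * w) by group, key]
    group
  rw [this]
  exact Subgroup.commutator_mem_commutator (inv_mem (hmem _)) (inv_mem (hmem _))

include hK in
theorem sqInDerived (hm : 1 ≤ m) : SqInDerived ↥(twistedF4 K (2 ^ m)) := by
  haveI := charP_two hK
  refine (gen hK).sqInDerived (fun a => ?_) ((2 * m + 1) * 12) 1
    ((2 ^ (2 * m + 1) - 1) * ((2 ^ (2 * m + 1)) ^ 3 + 1) *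
      ((2 ^ (2 * m + 1)) ^ 4 - 1) * ((2 ^ (2 * m + 1)) ^ 6 + 1)) ?_ ?_ ?_
  · match a with
    | ⟨0, _⟩ => exact orb0.sq_root
    | ⟨1, _⟩ => exact sq_root1 hK hm
  · rw [card_U hK, pow_mul]
  · rw [one_mul, card_G hK, pow_mul]
    ring
  · have h1 : 2 ∣ 2 ^ (2 * m + 1) := dvd_pow_self 2 (by omega)
    have h3 : 2 ∣ (2 ^ (2 * m + 1)) ^ 3 := dvd_pow h1 (by norm_num)
    have h4 : 2 ∣ (2 ^ (2 * m + 1)) ^ 4 := dvd_pow h1 (by norm_num)
    have h6 : 2 ∣ (2 ^ (2 * m + 1)) ^ 6 := dvd_pow h1 (by norm_num)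
    have p1 : 0 < 2 ^ (2 * m + 1) := by positivity
    have p4 : 0 < (2 ^ (2 * m + 1)) ^ 4 := by positivity
    simp only [Nat.prime_two.dvd_mul, not_or]
    exact ⟨⟨⟨by omega, by omega⟩, by omega⟩, by omega⟩

end T2F4

end CfsgLib.Chev
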